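import Groth.Agent.Lib.GCFun11.Basic
import Groth.Agent.Lib.Seesaw26.FieldFunctions
import Groth.Agent.Lib.SecLocus.Locus
import Groth.Agent.Lib.SecComp6.Smooth
import Groth.Agent.Lib.DeformIso.Basic
import Groth.Agent.Lib.Stein.Finite
import Mathlib.RingTheory.Flat.Basic
import Mathlib.RingTheory.DiscreteValuationRing.Basic

/-!
# Stalks of a flat model with reduced closed fibre after extending the fraction field
-/

set_option autoImplicit false
set_option linter.all false
set_option backward.isDefEq.respectTransparency false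

universe u

open CategoryTheory CategoryTheory.Limits AlgebraicGeometry Opposite TopologicalSpace IsLocalRing
open scoped TensorProduct

noncomputable section

namespace GrothLib.GenStalk29

/-- A localization of an algebra stays a domain after a flat extension of scalars if the algebra does. -/
theorem isDomain_tensor_localization {R A B L : Type u} [CommRing R] [CommRing A] [CommRing B] [CommRing L]
    [Algebra R A] [Algebra R B] [Algebra A B] [IsScalarTower R A B] [Algebra R L] [Module.Flat R L]
    (P : Ideal A) [P.IsPrime] [IsLocalization.AtPrime B P] [IsDomain A] [IsDomain (A ⊗[R] L)] :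
    IsDomain (B ⊗[R] L) := by
  let ι : A ⊗[R] L →ₐ[R] B ⊗[R] L := Algebra.TensorProduct.map (IsScalarTower.toAlgHom R A B) (AlgHom.id R L)
  have hι : Function.Injective ι :=
    Module.Flat.rTensor_preserves_injective_linearMap (M := L) (IsScalarTower.toAlgHom R A B).toLinearMap
      (IsLocalization.injective B P.primeCompl_le_nonZeroDivisors)
  have key : ∀ z : B ⊗[R] L, ∃ s : P.primeCompl, ∃ w, ι w = (algebraMap A B s ⊗ₜ[R] (1 : L)) * z := by
    intro z
    induction z using TensorProduct.induction_on with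
    | zero => exact ⟨1, 0, by simp⟩
    | tmul b l =>
      obtain ⟨⟨a, s⟩, h⟩ := IsLocalization.surj P.primeCompl b
      refine ⟨s, a ⊗ₜ l, ?_⟩
      rw [Algebra.TensorProduct.tmul_mul_tmul, one_mul, mul_comm, h]
      rfl
    | add x y hx hy =>
      obtain ⟨s, w, hw⟩ := hx
      obtain ⟨t, v, hv⟩ := hy
      refine ⟨s * t, ((t : A) ⊗ₜ[R] (1 : L)) * w + ((s : A) ⊗ₜ[R] (1 : L)) * v, ?_⟩
      rw [map_add, map_mul, map_mul, hw, hv, mul_add, Submonoid.coe_mul, map_mul]
      simp only [ι, Algebra.TensorProduct.map_tmul, AlgHom.id_apply, IsScalarTower.coe_toAlgHom', ← mul_assoc,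
        Algebra.TensorProduct.tmul_mul_tmul, one_mul, mul_comm (algebraMap A B (t : A))]
  have hunit : ∀ s : P.primeCompl, IsUnit (algebraMap A B s ⊗ₜ[R] (1 : L)) := fun s =>
    (IsLocalization.map_units B s).map (Algebra.TensorProduct.includeLeftRingHom : B →+* B ⊗[R] L)
  haveI : Nontrivial (B ⊗[R] L) := hι.nontrivial
  haveI : NoZeroDivisors (B ⊗[R] L) := by
    refine ⟨fun {z w} h => ?_⟩
    obtain ⟨s, z₀, hz⟩ := key z
    obtain ⟨t, w₀, hw⟩ := key w
    have h0 : ι (z₀ * w₀) = 0 := by rw [map_mul, hz, hw, mul_mul_mul_comm, h, mul_zero]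
    rcases mul_eq_zero.1 (hι (h0.trans (map_zero ι).symm)) with h' | h'
    · exact Or.inl ((hunit s).mul_right_eq_zero.1 (by rw [← hz, h', map_zero]))
    · exact Or.inr ((hunit t).mul_right_eq_zero.1 (by rw [← hw, h', map_zero]))
  exact NoZeroDivisors.to_isDomain _

/-- Extending the scalars of algebraic elements. -/
theorem isAlgebraic_tensor {R B L : Type u} [CommRing R] [CommRing B] [IsDomain B] [CommRing L] [Algebra R B]
    [Algebra R L] [Nontrivial (B ⊗[R] L)] (hinj : Function.Injective (algebraMap R B)) (hL : ∀ l : L, IsAlgebraic R l)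
    (z : B ⊗[R] L) : IsAlgebraic B z := by
  induction z using TensorProduct.induction_on with
  | zero => exact isAlgebraic_zero
  | tmul b l =>
    rw [show b ⊗ₜ[R] l = algebraMap B (B ⊗[R] L) b * ((1 : B) ⊗ₜ[R] l) by
      rw [Algebra.TensorProduct.algebraMap_apply, Algebra.TensorProduct.tmul_mul_tmul, Algebra.algebraMap_self,
        RingHom.id_apply, mul_one, one_mul]]
    refine (isAlgebraic_algebraMap b).mul ?_
    obtain ⟨q, hq0, hq⟩ := hL l
    refine ⟨q.map (algebraMap R B), fun h => hq0 (Polynomial.map_injective _ hinj (h.trans (Polynomial.map_zero _).symm)), ?_⟩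
    rw [Polynomial.aeval_map_algebraMap, ← Algebra.TensorProduct.includeRight_apply, Polynomial.aeval_algHom_apply, hq,
      map_zero]
  | add a b ha hb => exact ha.add hb

section Global

variable {R : Type u} [CommRing R] [IsDomain R] [IsDiscreteValuationRing R]
  {X : Scheme.{u}} (f : X ⟶ Spec (CommRingCat.of R)) [Flat f]

/-- The structure map to a stalk. -/
def toStalk (x : X) : R →+* X.presheaf.stalk x := (X.presheaf.germ ⊤ x trivial).hom.comp (Coh.toGlobal f)

theorem smul_injective (x : X) {π : R} (hπ : π ≠ 0) :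
    IsLeftRegular (toStalk f x π) := by
  obtain ⟨_, ⟨W, hW, rfl⟩, hxW, -⟩ := X.isBasis_affineOpens.exists_subset_of_mem_open (Set.mem_univ x) isOpen_univ
  letI : Algebra R Γ(X, W) := ((X.presheaf.map (homOfLE (le_top : W ≤ ⊤)).op).hom.comp (Coh.toGlobal f)).toAlgebra
  haveI : Module.Flat R Γ(X, W) := by
    have h := RingHom.Flat.comp (RingHom.Flat.of_bijective
      ((ConcreteCategory.bijective_of_isIso (Scheme.ΓSpecIso (CommRingCat.of R)).inv))) (f.flat_appLE (isAffineOpen_top _) hW le_top)
    exact h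
  let x' : W := ⟨x, hxW⟩
  letI := X.presheaf.algebra_section_stalk x'
  haveI := hW.isLocalization_stalk x'
  letI : Algebra R (X.presheaf.stalk x) := (toStalk f x).toAlgebra
  haveI : IsScalarTower R Γ(X, W) (X.presheaf.stalk x) := IsScalarTower.of_algebraMap_eq fun r =>
    (TopCat.Presheaf.germ_res_apply X.presheaf (homOfLE (le_top : W ≤ ⊤)) x hxW (Coh.toGlobal f r)).symm
  haveI : Module.Flat Γ(X, W) (X.presheaf.stalk x) :=
    IsLocalization.flat _ (hW.primeIdealOf x').asIdeal.primeCompl
  haveI : Module.Flat R (X.presheaf.stalk x) := Module.Flat.trans R Γ(X, W) _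
  intro a b h
  exact Module.Flat.isSMulRegular_of_nonZeroDivisors (M := X.presheaf.stalk x)
    (mem_nonZeroDivisors_of_ne_zero hπ) (by simp only [Algebra.smul_def]; exact h)

theorem exists_of_forall_dvd {π : R} (hπ : π ≠ 0) (g : Γ(X, ⊤))
    (h : ∀ x : X, toStalk f x π ∣ X.presheaf.germ ⊤ x trivial g) :
    ∃ g' : Γ(X, ⊤), g = (show Γ(X, ⊤) from Coh.toGlobal f π) * g' := by
  let π' : Γ(X, ⊤) := Coh.toGlobal f π
  have hloc : ∀ x : X, ∃ (V : X.Opens) (_ : x ∈ V) (a : Γ(X, V)),
      X.presheaf.map (homOfLE (le_top : V ≤ ⊤)).op g = X.presheaf.map (homOfLE (le_top : V ≤ ⊤)).op π' * a := by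
    intro x
    obtain ⟨c, hc⟩ := h x
    obtain ⟨V, hxV, a, rfl⟩ := TopCat.Presheaf.germ_exist X.presheaf c
    obtain ⟨W, hxW, i₁, i₂, hW⟩ := X.presheaf.germ_eq x (show x ∈ (⊤ : X.Opens) from trivial) hxV g
      (X.presheaf.map (homOfLE (le_top : V ≤ ⊤)).op π' * a) (by
        rw [map_mul, TopCat.Presheaf.germ_res_apply]
        exact hc)
    refine ⟨W, hxW, X.presheaf.map i₂.op a, ?_⟩
    rw [map_mul] at hW
    refine Eq.trans hW ?_
    congr 1
    exact (ConcreteCategory.congr_hom (X.presheaf.map_comp (homOfLE (le_top : V ≤ ⊤)).op i₂.op) π').symm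
  choose V hxV a ha using hloc
  have hcancel : ∀ (O : X.Opens) (p q : Γ(X, O)),
      X.presheaf.map (homOfLE (le_top : O ≤ ⊤)).op π' * p = X.presheaf.map (homOfLE (le_top : O ≤ ⊤)).op π' * q → p = q := by
    intro O p q hpq
    refine TopCat.Presheaf.section_ext X.sheaf O p q fun x hx => smul_injective f x hπ ?_
    have h' := congrArg (X.presheaf.germ O x hx) hpq
    rw [map_mul, map_mul, TopCat.Presheaf.germ_res_apply] at h'
    exact h'
  obtain ⟨g', hg', -⟩ := X.sheaf.existsUnique_gluing' V ⊤ (fun x => homOfLE le_top)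
    (fun x _ => Opens.mem_iSup.2 ⟨x, hxV x⟩) a fun i j => by
      refine hcancel _ _ _ ?_
      have hi := congrArg (X.presheaf.map (Opens.infLELeft (V i) (V j)).op) (ha i)
      have hj := congrArg (X.presheaf.map (Opens.infLERight (V i) (V j)).op) (ha j)
      rw [map_mul, ← CommRingCat.comp_apply, ← CommRingCat.comp_apply, ← Functor.map_comp] at hi hj
      exact hi.symm.trans hj
  refine ⟨g', TopCat.Presheaf.section_ext X.sheaf ⊤ _ _ fun x _ => ?_⟩
  have h1 := congrArg (X.presheaf.germ (V x) x (hxV x)) (ha x)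
  have h2 : X.presheaf.map (homOfLE (le_top : V x ≤ ⊤)).op g' = a x := hg' x
  rw [← h2, ← map_mul] at h1
  exact ((TopCat.Presheaf.germ_res_apply X.presheaf _ _ _ _).symm.trans h1).trans
    (TopCat.Presheaf.germ_res_apply X.presheaf _ _ _ _)

omit [IsDomain R] [IsDiscreteValuationRing R] [Flat f] in
theorem dvd_of_mem_map {π : R} (v : X)
    {I : Ideal Γ(Spec (CommRingCat.of R), ⊤)} (hle : I ≤ Ideal.span {(Scheme.ΓSpecIso (CommRingCat.of R)).inv π})
    {a : X.presheaf.stalk v}
    (h : a ∈ (I.map ((Spec (CommRingCat.of R)).presheaf.germ ⊤ (f v) trivial).hom).map (f.stalkMap v).hom) :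
    toStalk f v π ∣ a := by
  rw [Ideal.map_map] at h
  have h' := Ideal.map_mono hle h
  rw [Ideal.map_span, Set.image_singleton] at h'
  have h'' := Ideal.mem_span_singleton.1 h'
  rw [RingHom.comp_apply] at h''
  erw [Scheme.Hom.germ_stalkMap_apply] at h''
  exact h''

variable [IsProper f] [IsAlgClosed (ResidueField R)]
  {Xs : Scheme.{u}} {gs : Xs ⟶ X} {fs : Xs ⟶ Spec (CommRingCat.of (ResidueField R))}
  (hs : IsPullback gs fs f (Spec.map (CommRingCat.ofHom (residue R))))
  [ConnectedSpace Xs] [IsReduced Xs]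
include hs

/-- Functions of a model with connected reduced closed fibre come from the base. -/
theorem toGlobal_surjective : Function.Surjective (Coh.toGlobal f) := by
  obtain ⟨π, hπ⟩ := IsDiscreteValuationRing.exists_irreducible R
  let iS := Spec.map (CommRingCat.ofHom (residue R))
  haveI : IsClosedImmersion iS := IsClosedImmersion.spec_of_surjective _ Ideal.Quotient.mk_surjective
  haveI : IsClosedImmersion gs := MorphismProperty.of_isPullback hs.flip ‹IsClosedImmersion iS›
  haveI : IsProper fs := MorphismProperty.of_isPullback (P := @IsProper) hs inferInstance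
  have hk := Seesaw26.bijective_cst_of_isAlgClosed fs
  letI : Algebra R Γ(X, ⊤) := ((Scheme.ΓSpecIso (CommRingCat.of R)).inv ≫ f.appTop).hom.toAlgebra
  have hfin : Module.Finite R Γ(X, ⊤) := GrothLib.Stein.finite_toGlobal R f
  haveI := hfin
  suffices h : (⊤ : Submodule R Γ(X, ⊤)) ≤ LinearMap.range (Algebra.linearMap R Γ(X, ⊤)) by
    intro b
    obtain ⟨r, hr⟩ := h (Submodule.mem_top (x := (show Γ(X, ⊤) from b)))
    exact ⟨r, hr⟩
  refine Submodule.le_of_le_smul_of_le_jacobson_bot hfin.fg_top (jacobson_eq_maximalIdeal (⊥ : Ideal R) bot_ne_top).ge fun g _ => ?_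
  obtain ⟨c, hc⟩ := hk.2 (gs.appTop g)
  obtain ⟨r, rfl⟩ := residue_surjective c
  have h0 : gs.appTop (g - algebraMap R Γ(X, ⊤) r) = 0 := by
    rw [map_sub, sub_eq_zero, ← hc]
    show fs.appLE ⊤ ⊤ le_top ((Scheme.ΓSpecIso (CommRingCat.of (ResidueField R))).inv (residue R r)) = gs.appTop (Coh.toGlobal f r)
    rw [show fs.appLE ⊤ ⊤ le_top = fs.appTop from Scheme.Hom.appLE_eq_app _]
    have h1 := ConcreteCategory.congr_hom (Scheme.ΓSpecIso_inv_naturality (CommRingCat.ofHom (residue R))) r
    have h2 := congrArg (fun φ : Xs ⟶ Spec (CommRingCat.of R) => φ.appTop ((Scheme.ΓSpecIso (CommRingCat.of R)).inv r)) hs.w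
    exact (congrArg fs.appTop h1).trans h2.symm
  obtain ⟨g', hg'⟩ := exists_of_forall_dvd f hπ.ne_zero (g - algebraMap R Γ(X, ⊤) r) fun x => by
    by_cases hx : f x = closedPoint R
    · obtain ⟨y, rfl⟩ : x ∈ Set.range gs := by
        obtain ⟨c, hc, -⟩ := Scheme.Pullback.exists_preimage_pullback (f := f)
          (g := Spec.map (CommRingCat.ofHom (residue R))) x (closedPoint (ResidueField R)) (by
            rw [hx]
            exact (PrimeSpectrum.ext (IsLocalRing.maximalIdeal_comap (residue R))).symm)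
        refine ⟨hs.isoPullback.inv c, ?_⟩
        rw [← hc, ← Scheme.Hom.comp_apply, IsPullback.isoPullback_inv_fst]
      let U : (Spec (CommRingCat.of R)).affineOpens := ⟨⊤, isAffineOpen_top _⟩
      have hmem : X.presheaf.germ ⊤ (gs y) trivial (g - algebraMap R Γ(X, ⊤) r) ∈ RingHom.ker (gs.stalkMap y).hom := by
        rw [RingHom.mem_ker, Scheme.Hom.germ_stalkMap_apply]
        show Xs.presheaf.germ ⊤ y trivial (gs.appTop _) = 0
        rw [h0, map_zero]
      rw [GrothLib.DeformIso.ker_stalkMap_of_isPullback hs y U trivial] at hmem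
      have hle : iS.ker.ideal U ≤ Ideal.span {(Scheme.ΓSpecIso (CommRingCat.of R)).inv π} := by
        rw [Scheme.Hom.ker_apply]
        intro b hb
        obtain ⟨a, rfl⟩ := (Scheme.ΓSpecIso (CommRingCat.of R)).symm.commRingCatIsoToRingEquiv.surjective b
        have h1 := ConcreteCategory.congr_hom (Scheme.ΓSpecIso_inv_naturality (CommRingCat.ofHom (residue R))) a
        have h2 : residue R a = 0 := (ConcreteCategory.bijective_of_isIso
          (Scheme.ΓSpecIso (CommRingCat.of (ResidueField R))).inv).1 ((h1.trans hb).trans (map_zero _).symm)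
        obtain ⟨d, hd⟩ := Ideal.mem_span_singleton'.1 (hπ.maximalIdeal_eq ▸ (residue_eq_zero_iff a).1 h2)
        rw [← hd]
        exact Ideal.mem_span_singleton'.2 ⟨_, (map_mul _ d π).symm⟩
      exact dvd_of_mem_map f (gs y) hle hmem
    · refine IsUnit.dvd ?_
      let q : PrimeSpectrum R := f x
      have hπq : π ∉ q.asIdeal := fun h => hx (PrimeSpectrum.ext (eq_maximalIdeal
        (q.2.isMaximal_of_ne_bot fun e => hπ.ne_zero (by rw [e] at h; exact h))))
      show IsUnit (X.presheaf.germ ⊤ x trivial (Coh.toGlobal f π))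
      rw [← RingedSpace.mem_basicOpen _ (Coh.toGlobal f π : Γ(X, ⊤)) x trivial]
      show x ∈ X.basicOpen (f.app ⊤ ((Scheme.ΓSpecIso (CommRingCat.of R)).inv π))
      rw [← Scheme.preimage_basicOpen, Scheme.Hom.mem_preimage, basicOpen_eq_of_affine']
      show f x ∈ PrimeSpectrum.basicOpen _
      rw [PrimeSpectrum.mem_basicOpen]
      rw [show (Scheme.ΓSpecIso (CommRingCat.of R)).hom ((Scheme.ΓSpecIso (CommRingCat.of R)).inv π) = π from
        (Scheme.ΓSpecIso (CommRingCat.of R)).commRingCatIsoToRingEquiv.apply_symm_apply π]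
      exact hπq
  refine Submodule.mem_sup.2 ⟨algebraMap R Γ(X, ⊤) r, ⟨r, rfl⟩, π • g', ?_, ?_⟩
  · exact Submodule.smul_mem_smul (hπ.maximalIdeal_eq ▸ Ideal.mem_span_singleton_self π) trivial
  · rw [Algebra.smul_def, show algebraMap R Γ(X, ⊤) π * g' = g - algebraMap R Γ(X, ⊤) r from hg'.symm,
      add_sub_cancel]

variable {XK : Scheme.{u}} {gK : XK ⟶ X} {fK : XK ⟶ Spec (CommRingCat.of (FractionRing R))}
  (hK : IsPullback gK fK f (Spec.map (CommRingCat.ofHom (algebraMap R (FractionRing R)))))
  [Nonempty XK]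
include hK

theorem geometricallyConnected : GeometricallyConnected fK := by
  haveI : IsProper fK := MorphismProperty.of_isPullback (P := @IsProper) hK inferInstance
  haveI : Nonempty X := ⟨gK (Classical.arbitrary XK)⟩
  haveI : CompactSpace X := QuasiCompact.compactSpace_of_compactSpace f
  haveI : QuasiSeparatedSpace X := quasiSeparatedSpace_of_quasiSeparated f
  let j := Spec.map (CommRingCat.ofHom (algebraMap R (FractionRing R)))
  haveI : Flat j := by
    rw [HasRingHomProperty.Spec_iff (P := @Flat)]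
    exact RingHom.flat_algebraMap_iff.mpr (IsLocalization.flat _ (nonZeroDivisors R))
  have hP : IsPushout (f.appLE ⊤ ⊤ le_top) (j.appLE ⊤ ⊤ le_top) (gK.appLE ⊤ ⊤ le_top) (fK.appLE ⊤ ⊤ le_top) :=
    (AlgebraicGeometry.isIso_pushoutSection_iff hK (US := ⊤) (UT := ⊤) (UX := ⊤) (UY := ⊤) le_top le_top
      (by simp)).1 (isIso_pushoutSection_of_isQuasiSeparated_of_flat_right hK _ _ _
        (isAffineOpen_top _) (isAffineOpen_top _) isCompact_univ (IsQuasiSeparated.of_quasiSeparatedSpace _))
  haveI : Nonempty (⊤ : X.Opens) := ⟨⟨Classical.arbitrary X, trivial⟩⟩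
  have hbij : Function.Bijective (Coh.toGlobal f) := by
    refine ⟨(injective_iff_map_eq_zero _).2 fun a ha => ?_, toGlobal_surjective f hs⟩
    by_contra h
    obtain ⟨x⟩ := ‹Nonempty X›
    have h1 : toStalk f x a = 0 := by
      show X.presheaf.germ ⊤ x trivial (Coh.toGlobal f a) = 0
      rw [ha]; exact map_zero _
    exact one_ne_zero (smul_injective f x h (by simp only [h1, zero_mul]) : (1 : X.presheaf.stalk x) = 0)
  haveI : IsIso (f.appLE ⊤ ⊤ le_top) := by
    rw [show f.appLE ⊤ ⊤ le_top = f.appTop from Scheme.Hom.appLE_eq_app _]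
    exact (ConcreteCategory.isIso_iff_bijective _).2 ((Function.Bijective.of_comp_iff f.appTop
      (ConcreteCategory.bijective_of_isIso (Scheme.ΓSpecIso (CommRingCat.of R)).inv)).1
      (show Function.Bijective fun r => f.appTop ((Scheme.ΓSpecIso (CommRingCat.of R)).inv r) from hbij))
  haveI : IsIso (fK.appLE ⊤ ⊤ le_top) := hP.isIso_inr_of_isIso
  refine GCFun11.geometricallyConnected_of_bijective fK ?_
  rw [show fK.appTop = fK.appLE ⊤ ⊤ le_top from (Scheme.Hom.appLE_eq_app _).symm]
  exact ConcreteCategory.bijective_of_isIso _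

omit [IsAlgClosed (ResidueField R)] [ConnectedSpace Xs] [IsReduced Xs] hs in
/-- The geometric generic fibre, seen on a stalk. -/
theorem isDomain_tensor_stalk [Smooth fK] [GeometricallyConnected fK] {B : Type u} [CommRing B] [Algebra R B]
    (x : X) (e : X.presheaf.stalk x ≅ CommRingCat.of B) (he : e.hom.hom.comp (toStalk f x) = algebraMap R B)
    (L : Type u) [Field L] [Algebra R L] [Algebra (FractionRing R) L] [IsScalarTower R (FractionRing R) L] :
    IsDomain (B ⊗[R] L) := by
  let K := FractionRing R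
  haveI := GrothLib.SecLocus.geometricallyIrreducible_of_smooth fK
  haveI := GrothLib.SecComp6.geometricallyReduced_of_smooth fK
  let τ : Spec (CommRingCat.of L) ⟶ Spec (CommRingCat.of K) := Spec.map (CommRingCat.ofHom (algebraMap K L))
  let ι : Spec (CommRingCat.of L) ⟶ Spec (CommRingCat.of R) := Spec.map (CommRingCat.ofHom (algebraMap R L))
  have hι : τ ≫ Spec.map (CommRingCat.ofHom (algebraMap R K)) = ι := by
    rw [← Spec.map_comp]
    exact congrArg Spec.map (CommRingCat.hom_ext (IsScalarTower.algebraMap_eq R K L).symm)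
  haveI : IrreducibleSpace ↥(pullback fK τ) :=
    pullback_of_geometrically GeometricallyIrreducible.geometrically_irreducibleSpace _ τ
  haveI : IsReduced (pullback fK τ) :=
    pullback_of_geometrically GeometricallyReduced.geometrically_isReduced _ τ
  haveI : IsIntegral (pullback fK τ) := isIntegral_of_irreducibleSpace_of_isReduced _
  have hZ : IsPullback (pullback.fst fK τ ≫ gK) (pullback.snd fK τ) f ι :=
    hι ▸ (IsPullback.of_hasPullback fK τ).paste_horiz hK
  haveI : Nonempty ↥(pullback f ι) := ⟨hZ.isoPullback.hom (Classical.arbitrary _)⟩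
  haveI : IsIntegral (pullback f ι) := isIntegral_of_isOpenImmersion hZ.isoPullback.inv
  obtain ⟨_, ⟨W, hW, rfl⟩, hxW, -⟩ := X.isBasis_affineOpens.exists_subset_of_mem_open (Set.mem_univ x) isOpen_univ
  letI : Algebra R Γ(X, W) := ((X.presheaf.map (homOfLE (le_top : W ≤ ⊤)).op).hom.comp (Coh.toGlobal f)).toAlgebra
  let A : Type u := Γ(X, W)
  let a : Spec (CommRingCat.of A) ⟶ Spec (CommRingCat.of R) := Spec.map (CommRingCat.ofHom (algebraMap R A))
  have ha : hW.fromSpec ≫ f = a := by
    rw [← IsAffineOpen.SpecMap_appLE_fromSpec f (isAffineOpen_top _) hW le_top, IsAffineOpen.fromSpec_top, Scheme.isoSpec_Spec_inv]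
    rw [← Spec.map_comp]
    exact congrArg Spec.map rfl
  let P := pullback hW.fromSpec (pullback.fst f ι)
  let Φ : P ≅ Spec (CommRingCat.of (A ⊗[R] L)) :=
    pullbackRightPullbackFstIso f ι hW.fromSpec ≪≫ pullback.congrHom ha rfl ≪≫ pullbackSpecIso R A L
  haveI : IsOpenImmersion (Φ.inv ≫ pullback.snd hW.fromSpec (pullback.fst f ι)) := inferInstance
  let x' : W := ⟨x, hxW⟩
  letI := X.presheaf.algebra_section_stalk x'
  haveI := hW.isLocalization_stalk x'
  letI : Algebra A B := (e.hom.hom.comp (algebraMap Γ(X, W) (X.presheaf.stalk x))).toAlgebra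
  haveI : IsScalarTower R A B := IsScalarTower.of_algebraMap_eq fun r => by
    rw [← he]
    exact congrArg e.hom (TopCat.Presheaf.germ_res_apply X.presheaf (homOfLE (le_top : W ≤ ⊤)) x hxW (Coh.toGlobal f r)).symm
  let eA : X.presheaf.stalk x ≃ₐ[A] B :=
    AlgEquiv.ofRingEquiv (f := e.commRingCatIsoToRingEquiv) fun _ => rfl
  haveI : IsLocalization.AtPrime B (hW.primeIdealOf x').asIdeal :=
    IsLocalization.isLocalization_of_algEquiv _ eA
  haveI : Module.Flat R A := RingHom.Flat.comp (f := (Scheme.ΓSpecIso (CommRingCat.of R)).inv.hom)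
    (RingHom.Flat.of_bijective (ConcreteCategory.bijective_of_isIso (Scheme.ΓSpecIso (CommRingCat.of R)).inv))
    (f.flat_appLE (isAffineOpen_top _) hW le_top)
  have hinj : Function.Injective (algebraMap R L) := by
    rw [IsScalarTower.algebraMap_eq R K L]
    exact (algebraMap K L).injective.comp (IsFractionRing.injective R K)
  have hAL : Function.Injective (Algebra.TensorProduct.includeLeft : A →ₐ[R] A ⊗[R] L) :=
    Algebra.TensorProduct.includeLeft_injective hinj
  haveI : Nontrivial A := ⟨⟨(1 : Γ(X, W)), 0, fun h => by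
    have := congrArg (X.presheaf.germ W x hxW) h
    rw [map_one, map_zero] at this
    exact one_ne_zero this⟩⟩
  haveI : Nontrivial (A ⊗[R] L) := hAL.nontrivial
  haveI : Nonempty ↥(Spec (CommRingCat.of (A ⊗[R] L))) :=
    inferInstanceAs (Nonempty (PrimeSpectrum (A ⊗[R] L)))
  haveI : IsIntegral (Spec (CommRingCat.of (A ⊗[R] L))) :=
    isIntegral_of_isOpenImmersion (Φ.inv ≫ pullback.snd hW.fromSpec (pullback.fst f ι))
  haveI : IsDomain (A ⊗[R] L) := (affine_isIntegral_iff (CommRingCat.of (A ⊗[R] L))).1 inferInstance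
  haveI : IsDomain A := hAL.isDomain (Algebra.TensorProduct.includeLeft : A →ₐ[R] A ⊗[R] L).toRingHom
  haveI : Module.Flat R L := Module.Flat.trans R K L
  exact isDomain_tensor_localization (hW.primeIdealOf x').asIdeal

omit [IsAlgClosed (ResidueField R)] [ConnectedSpace Xs] [IsReduced Xs] hs in
/-- The stalk of a model at the generic point of a closed fibre component becomes a field. -/
theorem isField_tensor_stalk [Smooth fK] [GeometricallyConnected fK] {B : Type u} [CommRing B] [IsDomain B]
    [IsDiscreteValuationRing B] [Algebra R B]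
    (x : X) (e : X.presheaf.stalk x ≅ CommRingCat.of B) (he : e.hom.hom.comp (toStalk f x) = algebraMap R B)
    (hmax : maximalIdeal B = (maximalIdeal R).map (algebraMap R B))
    (L : Type u) [Field L] [Algebra R L] [Algebra (FractionRing R) L] [IsScalarTower R (FractionRing R) L]
    [Algebra.IsAlgebraic (FractionRing R) L] : IsField (B ⊗[R] L) := by
  haveI := isDomain_tensor_stalk f hK x e he L
  haveI : Module.Flat R L := Module.Flat.trans R (FractionRing R) L
  obtain ⟨π, hπ⟩ := IsDiscreteValuationRing.exists_irreducible R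
  have hB : maximalIdeal B = Ideal.span {algebraMap R B π} := by
    rw [hmax, hπ.maximalIdeal_eq, Ideal.map_span, Set.image_singleton]
  have hπB : Irreducible (algebraMap R B π) :=
    (IsDiscreteValuationRing.irreducible_iff_uniformizer _).2 hB
  have hinjR : Function.Injective (algebraMap R B) := (injective_iff_map_eq_zero _).2 fun a ha => by
    by_contra h
    obtain ⟨n, u, rfl⟩ := IsDiscreteValuationRing.eq_unit_mul_pow_irreducible h hπ
    rw [map_mul, map_pow] at ha
    exact hπB.ne_zero (eq_zero_of_pow_eq_zero ((u.isUnit.map (algebraMap R B)).mul_right_eq_zero.1 ha))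
  have hπL : IsUnit (algebraMap R L π) := by
    refine isUnit_iff_ne_zero.2 fun h => hπ.ne_zero ?_
    rw [IsScalarTower.algebraMap_apply R (FractionRing R) L] at h
    exact IsFractionRing.injective R (FractionRing R) (((algebraMap _ L).injective (h.trans (map_zero _).symm)).trans (map_zero _).symm)
  have hunit : ∀ b : nonZeroDivisors B, IsUnit ((Algebra.TensorProduct.includeLeftRingHom : B →+* B ⊗[R] L) b) := by
    intro b
    obtain ⟨n, u, hu⟩ := IsDiscreteValuationRing.eq_unit_mul_pow_irreducible (nonZeroDivisors.ne_zero b.2) hπB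
    rw [hu, map_mul, map_pow]
    refine (u.isUnit.map _).mul (IsUnit.pow _ ?_)
    show IsUnit (algebraMap R B π ⊗ₜ[R] (1 : L))
    rw [Algebra.algebraMap_eq_smul_one, TensorProduct.smul_tmul, ← Algebra.algebraMap_eq_smul_one]
    exact hπL.map (Algebra.TensorProduct.includeRight : L →ₐ[R] B ⊗[R] L)
  refine ⟨exists_pair_ne _, mul_comm, fun {z} hz => ?_⟩
  have hL : ∀ l : L, IsAlgebraic R l := fun l =>
    (IsFractionRing.isAlgebraic_iff R (FractionRing R) L).2 (Algebra.IsAlgebraic.isAlgebraic l)
  obtain ⟨b, hb0, d, hd⟩ := (isAlgebraic_tensor hinjR hL z).exists_nonzero_dvd (mem_nonZeroDivisors_of_ne_zero hz)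
  obtain ⟨c, hc⟩ := (hunit ⟨b, mem_nonZeroDivisors_of_ne_zero hb0⟩).exists_right_inv
  exact ⟨d * c, by rw [← mul_assoc, ← hd]; exact hc⟩

omit [IsAlgClosed (ResidueField R)] [ConnectedSpace Xs] [IsReduced Xs] hs hK in
/-- The stalk base changed to a dominating valuation ring with the same residue field. -/
theorem isDVR_tensor_of_isField {B R' L : Type u} [CommRing B] [IsDomain B] [IsDiscreteValuationRing B]
    [CommRing R'] [IsDomain R'] [IsDiscreteValuationRing R'] [Field L] [Algebra R B] [Algebra R R'] [Algebra R L]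
    [Module.Flat R B] [IsLocalHom (algebraMap R R')]
    (hmax : maximalIdeal B = (maximalIdeal R).map (algebraMap R B))
    (hres : ∀ a : R', ∃ r, a - algebraMap R R' r ∈ maximalIdeal R')
    (halg : ∀ a : R', IsAlgebraic R a) (hinjR : Function.Injective (algebraMap R B))
    (hinj' : Function.Injective (algebraMap R R'))
    (ε : R' →ₐ[R] L) (hε : Function.Injective ε) (hfld : IsField (B ⊗[R] L)) :
    ∃ _ : IsDomain (B ⊗[R] R'), IsDiscreteValuationRing (B ⊗[R] R') := by
  let φ : B ⊗[R] R' →ₐ[R] B ⊗[R] L := Algebra.TensorProduct.map (AlgHom.id R B) ε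
  have hφ : Function.Injective φ := Module.Flat.lTensor_preserves_injective_linearMap ε.toLinearMap hε
  haveI : IsDomain (B ⊗[R] L) := hfld.isDomain
  haveI : IsDomain (B ⊗[R] R') := hφ.isDomain φ.toRingHom
  refine ⟨inferInstance, ?_⟩
  obtain ⟨ϖ, hϖ⟩ := IsDiscreteValuationRing.exists_irreducible R'
  let T := B ⊗[R] R'
  let w : T := (1 : B) ⊗ₜ[R] ϖ
  -- the quotient by the uniformizer is the residue field of `B`
  let M : Ideal T := Ideal.span {w}
  have hm : ∀ r ∈ maximalIdeal R, (algebraMap R T r) ∈ M := fun r hr => by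
    obtain ⟨d, hd⟩ := Ideal.mem_span_singleton'.1 (hϖ.maximalIdeal_eq ▸
      ((mem_maximalIdeal _).2 (map_mem_nonunits_iff (algebraMap R R') r |>.2 hr)) :
        algebraMap R R' r ∈ Ideal.span {ϖ})
    refine Ideal.mem_span_singleton'.2 ⟨(1 : B) ⊗ₜ d, ?_⟩
    rw [Algebra.TensorProduct.tmul_mul_tmul, one_mul, hd, ← Algebra.TensorProduct.includeRight_apply, AlgHom.commutes]
  have hsurj : ∀ t : T, ∃ b : B, t - b ⊗ₜ[R] (1 : R') ∈ M := by
    intro t
    induction t using TensorProduct.induction_on with
    | zero => exact ⟨0, by simp⟩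
    | tmul b a =>
      obtain ⟨r, hr⟩ := hres a
      refine ⟨r • b, ?_⟩
      obtain ⟨d, hd⟩ := Ideal.mem_span_singleton'.1 (hϖ.maximalIdeal_eq ▸ hr)
      refine Ideal.mem_span_singleton'.2 ⟨b ⊗ₜ d, ?_⟩
      rw [Algebra.TensorProduct.tmul_mul_tmul, mul_one, hd, TensorProduct.tmul_sub, TensorProduct.smul_tmul,
        ← Algebra.algebraMap_eq_smul_one]
    | add a b ha hb =>
      obtain ⟨p, hp⟩ := ha
      obtain ⟨q, hq⟩ := hb
      refine ⟨p + q, ?_⟩
      rw [TensorProduct.add_tmul, add_sub_add_comm]
      exact M.add_mem hp hq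
  have hκ : ∃ g : R' →ₐ[R] ResidueField B, g ϖ = 0 := by
    have key : ∀ r s : R, algebraMap R R' r - algebraMap R R' s ∈ maximalIdeal R' →
        residue B (algebraMap R B r) = residue B (algebraMap R B s) := fun r s h => by
      rw [← map_sub] at h
      refine sub_eq_zero.1 ((map_sub _ _ _).symm.trans ((residue_eq_zero_iff _).2 ?_))
      rw [← map_sub, hmax]
      exact Ideal.mem_map_of_mem _ ((mem_maximalIdeal _).2 ((map_mem_nonunits_iff (algebraMap R R') _).1 h))
    choose ρ hρ using hres
    let g : R' → ResidueField B := fun a => residue B (algebraMap R B (ρ a))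
    have hg : ∀ a s, a - algebraMap R R' s ∈ maximalIdeal R' → g a = residue B (algebraMap R B s) := fun a s h =>
      key _ _ (by simpa using (maximalIdeal R').sub_mem h (hρ a))
    refine ⟨{ toFun := g
              map_one' := (hg 1 1 (by simp)).trans (by simp)
              map_mul' := fun a b => ?_
              map_zero' := (hg 0 0 (by simp)).trans (by simp)
              map_add' := fun a b => ?_
              commutes' := fun r => hg _ r (by simp) }, (hg ϖ 0 ?_).trans (by simp)⟩
    · refine (hg _ (ρ a * ρ b) ?_).trans (by simp [g])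
      rw [map_mul, show a * b - algebraMap R R' (ρ a) * algebraMap R R' (ρ b) =
        a * (b - algebraMap R R' (ρ b)) + algebraMap R R' (ρ b) * (a - algebraMap R R' (ρ a)) by ring]
      exact (maximalIdeal R').add_mem (Ideal.mul_mem_left _ _ (hρ b)) (Ideal.mul_mem_left _ _ (hρ a))
    · refine (hg _ (ρ a + ρ b) ?_).trans (by simp [g])
      rw [map_add, add_sub_add_comm]
      exact (maximalIdeal R').add_mem (hρ a) (hρ b)
    · rw [map_zero, sub_zero, hϖ.maximalIdeal_eq]; exact Ideal.mem_span_singleton_self ϖ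
  obtain ⟨g, hg⟩ := hκ
  let q : T →ₐ[R] ResidueField B :=
    Algebra.TensorProduct.lift (IsScalarTower.toAlgHom R B (ResidueField B)) g fun _ _ => Commute.all _ _
  have hq : ∀ (b : B) (a : R'), q (b ⊗ₜ[R] a) = residue B b * g a := fun _ _ => Algebra.TensorProduct.lift_tmul _ _ _ _ _
  have hker : RingHom.ker q.toRingHom = M := by
    refine le_antisymm (fun t ht => ?_) ((Ideal.span_singleton_le_iff_mem _).2 ?_)
    · obtain ⟨b, hb⟩ := hsurj t
      have hwq : q w = 0 := by rw [hq, hg, mul_zero]
      have hb0 : residue B b = 0 := by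
        obtain ⟨d, hd⟩ := Ideal.mem_span_singleton'.1 hb
        have := congrArg q hd
        rw [map_mul, hwq, mul_zero, map_sub, show q t = 0 from ht, zero_sub, eq_comm, neg_eq_zero] at this
        rw [hq, map_one, mul_one] at this
        exact this
      have hbM : b ⊗ₜ[R] (1 : R') ∈ M := by
        have hmem : b ∈ (maximalIdeal R).map (algebraMap R B) := hmax ▸ (residue_eq_zero_iff b).1 hb0
        have := Ideal.mem_map_of_mem (Algebra.TensorProduct.includeLeftRingHom : B →+* T) hmem
        rw [Ideal.map_map] at this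
        refine (Ideal.map_le_iff_le_comap.2 fun r hr => ?_) this
        exact hm r hr
      simpa using M.add_mem hb hbM
    · show q w = 0
      rw [hq, hg, mul_zero]
  haveI hM : M.IsMaximal := by
    rw [← hker]
    refine RingHom.ker_isMaximal_of_surjective q.toRingHom fun y => ?_
    obtain ⟨b, rfl⟩ := residue_surjective y
    exact ⟨b ⊗ₜ 1, by show q _ = _; rw [hq, map_one, mul_one]⟩
  have hprime : ∀ P : Ideal T, P.IsPrime → P ≠ ⊥ → P = M := by
    intro P hP hP0
    refine (hM.eq_of_le hP.ne_top ((Ideal.span_singleton_le_iff_mem _).2 ?_)).symm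
    obtain ⟨z, hz, hz0⟩ := Submodule.exists_mem_ne_zero_of_ne_bot hP0
    obtain ⟨b, hb0, hdvd⟩ := (isAlgebraic_tensor hinjR halg z).exists_nonzero_dvd (mem_nonZeroDivisors_of_ne_zero hz0)
    have hbP : (Algebra.TensorProduct.includeLeftRingHom : B →+* T) b ∈ P := P.mem_of_dvd hdvd hz
    obtain ⟨π, hπ⟩ := IsDiscreteValuationRing.exists_irreducible R
    have hπB : Irreducible (algebraMap R B π) := (IsDiscreteValuationRing.irreducible_iff_uniformizer _).2 (by
      rw [hmax, hπ.maximalIdeal_eq, Ideal.map_span, Set.image_singleton])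
    obtain ⟨n, u, rfl⟩ := IsDiscreteValuationRing.eq_unit_mul_pow_irreducible hb0 hπB
    rw [map_mul, map_pow] at hbP
    have hπP : (Algebra.TensorProduct.includeLeftRingHom : B →+* T) (algebraMap R B π) ∈ P :=
      hP.mem_of_pow_mem n ((P.unit_mul_mem_iff_mem (u.isUnit.map _)).1 hbP)
    have hne : algebraMap R R' π ≠ 0 := fun h => hπ.ne_zero (hinj' (h.trans (map_zero _).symm))
    obtain ⟨m, v, hv⟩ := IsDiscreteValuationRing.eq_unit_mul_pow_irreducible hne hϖ
    change algebraMap R B π ⊗ₜ[R] (1 : R') ∈ P at hπP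
    rw [Algebra.algebraMap_eq_smul_one, TensorProduct.smul_tmul, ← Algebra.algebraMap_eq_smul_one, hv,
      ← Algebra.TensorProduct.includeRight_apply, map_mul, map_pow,
      P.unit_mul_mem_iff_mem (v.isUnit.map _)] at hπP
    exact hP.mem_of_pow_mem m hπP
  haveI : IsPrincipalIdealRing T := IsPrincipalIdealRing.of_prime fun P hP => by
    by_cases h0 : P = ⊥
    · subst h0; exact bot_isPrincipal
    · rw [hprime P hP h0]; exact ⟨⟨w, rfl⟩⟩
  haveI : IsLocalRing T := IsLocalRing.of_unique_max_ideal ⟨M, hM, fun P hP => by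
    by_cases h0 : P = ⊥
    · subst h0; exact hP.eq_of_le hM.ne_top bot_le
    · exact hprime P hP.isPrime h0⟩
  refine { not_a_field' := fun h => ?_ }
  have hMb : M = ⊥ := (IsLocalRing.eq_maximalIdeal hM).trans h
  have hw : w = 0 := Ideal.span_singleton_eq_bot.1 hMb
  have h1 : φ w = 0 := by rw [hw, map_zero]
  letI := hfld.toField
  refine hϖ.ne_zero (hε ?_)
  rw [map_zero]
  exact (Algebra.TensorProduct.includeRight : L →ₐ[R] B ⊗[R] L).toRingHom.injective
    ((show (1 : B) ⊗ₜ[R] ε ϖ = 0 from h1).trans (map_zero _).symm)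

end Global

section Ext

variable {R : Type u} [CommRing R] [IsDomain R] [IsDiscreteValuationRing R]

theorem isAlgebraic_of_finite {R' : Type u} [CommRing R'] [IsDomain R'] [Algebra R R']
    (hinj : Function.Injective (algebraMap R R')) [Module.Finite (FractionRing R) (FractionRing R ⊗[R] R')] (a : R') :
    IsAlgebraic R a := by
  let K := FractionRing R
  let K' := FractionRing R'
  haveI : FaithfulSMul R K' := (faithfulSMul_iff_algebraMap_injective R K').2 (by
    rw [IsScalarTower.algebraMap_eq R R' K']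
    exact (IsFractionRing.injective R' K').comp hinj)
  letI : Algebra K K' := FractionRing.liftAlgebra R K'
  haveI : IsScalarTower R K K' := FractionRing.isScalarTower_liftAlgebra R K'
  let μ : K ⊗[R] R' →ₐ[K] K' := Algebra.TensorProduct.lift (Algebra.ofId K K') (IsScalarTower.toAlgHom R R' K')
    fun _ _ => Commute.all _ _
  have h := (IsIntegral.of_finite K ((1 : K) ⊗ₜ[R] a)).map μ
  have hμ : μ ((1 : K) ⊗ₜ[R] a) = algebraMap R' K' a := by
    rw [Algebra.TensorProduct.lift_tmul, map_one, one_mul]; rfl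
  rw [hμ] at h
  exact (isAlgebraic_algHom_iff (IsScalarTower.toAlgHom R R' K') (IsFractionRing.injective R' K')).1
    ((IsFractionRing.isAlgebraic_iff R K K').2 h.isAlgebraic)

theorem exists_residue [IsAlgClosed (ResidueField R)] {R' : Type u} [CommRing R'] [IsDomain R'] [IsLocalRing R']
    [Algebra R R'] [IsLocalHom (algebraMap R R')] (hinj : Function.Injective (algebraMap R R')) {a : R'}
    (ha : IsAlgebraic R a) : ∃ r, a - algebraMap R R' r ∈ maximalIdeal R' := by
  classical
  obtain ⟨π, hπ⟩ := IsDiscreteValuationRing.exists_irreducible R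
  letI : NormalizedGCDMonoid R := Classical.arbitrary _
  obtain ⟨q, hq0, hq⟩ := ha
  let p := q.primPart
  have hp : Polynomial.aeval a p = 0 := by
    rw [q.eq_C_content_mul_primPart, map_mul, Polynomial.aeval_C, mul_eq_zero] at hq
    refine hq.resolve_left fun h => hq0 ?_
    exact Polynomial.content_eq_zero_iff.1 (hinj (h.trans (map_zero _).symm))
  let g : ResidueField R →+* ResidueField R' := ResidueField.map (algebraMap R R')
  have hne : p.map (residue R) ≠ 0 := fun h => hπ.not_isUnit (q.isPrimitive_primPart π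
    ((Polynomial.C_dvd_iff_dvd_coeff _ _).2 fun n => by
      have h1 := congrArg (fun P => Polynomial.coeff P n) h
      simp only [Polynomial.coeff_map, Polynomial.coeff_zero, residue_eq_zero_iff] at h1
      rwa [hπ.maximalIdeal_eq, Ideal.mem_span_singleton] at h1))
  have hroot : residue R' a ∈ ((p.map (residue R)).map g).roots := by
    rw [Polynomial.mem_roots ((Polynomial.map_ne_zero_iff g.injective).2 hne), Polynomial.IsRoot, Polynomial.map_map,
      Polynomial.eval_map]
    have : g.comp (residue R) = (residue R').comp (algebraMap R R') := by ext r; rfl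
    rw [this, ← Polynomial.hom_eval₂, show p.eval₂ (algebraMap R R') a = 0 from hp, map_zero]
  rw [(IsAlgClosed.splits _).roots_map g, Multiset.mem_map] at hroot
  obtain ⟨c, -, hc⟩ := hroot
  obtain ⟨r, rfl⟩ := residue_surjective c
  refine ⟨r, (residue_eq_zero_iff _).1 ?_⟩
  rw [map_sub, ← hc]
  exact sub_self _

theorem isDVR_of_isField_algebraicClosure [IsAlgClosed (ResidueField R)] {B R' : Type u} [CommRing B] [IsDomain B]
    [IsDiscreteValuationRing B] [Algebra R B] [CommRing R'] [IsDomain R'] [IsDiscreteValuationRing R'] [Algebra R R']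
    [IsLocalHom (algebraMap R R')] [Module.Finite (FractionRing R) (FractionRing R ⊗[R] R')]
    (hmax : maximalIdeal B = (maximalIdeal R).map (algebraMap R B))
    (hinj : Function.Injective (algebraMap R R'))
    (hfld : IsField (B ⊗[R] AlgebraicClosure (FractionRing R))) :
    ∃ _ : IsDomain (B ⊗[R] R'), IsDiscreteValuationRing (B ⊗[R] R') := by
  obtain ⟨π, hπ⟩ := IsDiscreteValuationRing.exists_irreducible R
  have hπB : Irreducible (algebraMap R B π) := (IsDiscreteValuationRing.irreducible_iff_uniformizer _).2 (by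
    rw [hmax, hπ.maximalIdeal_eq, Ideal.map_span, Set.image_singleton])
  have hinjR : Function.Injective (algebraMap R B) := (injective_iff_map_eq_zero _).2 fun a ha => by
    by_contra h
    obtain ⟨n, u, rfl⟩ := IsDiscreteValuationRing.eq_unit_mul_pow_irreducible h hπ
    rw [map_mul, map_pow] at ha
    exact hπB.ne_zero (eq_zero_of_pow_eq_zero ((u.isUnit.map (algebraMap R B)).mul_right_eq_zero.1 ha))
  haveI : FaithfulSMul R B := (faithfulSMul_iff_algebraMap_injective R B).2 hinjR
  haveI : FaithfulSMul R R' := (faithfulSMul_iff_algebraMap_injective R R').2 hinj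
  have halg := isAlgebraic_of_finite (R := R) hinj
  haveI : Algebra.IsAlgebraic R R' := ⟨halg⟩
  let L := AlgebraicClosure (FractionRing R)
  haveI : FaithfulSMul R L := (faithfulSMul_iff_algebraMap_injective R L).2 (by
    rw [IsScalarTower.algebraMap_eq R (FractionRing R) L]
    exact (algebraMap (FractionRing R) L).injective.comp (IsFractionRing.injective R _))
  let ε : R' →ₐ[R] L := IsAlgClosed.lift
  have hε : Function.Injective ε := (injective_iff_map_eq_zero _).2 fun a ha => by
    by_contra h
    obtain ⟨r, hr, d, hd⟩ := (halg a).exists_nonzero_dvd (mem_nonZeroDivisors_of_ne_zero h)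
    refine hr ((FaithfulSMul.algebraMap_injective R L) ?_)
    rw [← ε.commutes, hd, map_mul, ha, zero_mul, map_zero]
  exact isDVR_tensor_of_isField hmax (fun a => exists_residue hinj (halg a)) halg hinjR hinj ε hε hfld

end Ext

end GrothLib.GenStalk29
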